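import Mathlib
import Groth.Agent.Lib.Helper17.ExtZeroP
import Groth.Agent.Lib.Helper17.IHom

/-!
Extension by zero for sheaves of modules over an arbitrary (not necessarily commutative) sheaf of
rings `A : Sheaf J RingCat` on a small site, following `Helper17.ExtZero` (which treats the
commutative case of `ModSite`).
-/

open CategoryTheory CategoryTheory.Limits Opposite

universe u

noncomputable section

namespace Groth.Agent.Lib.Helper2.ExtZeroR

open Groth.Agent.Lib.Helper17.ExtZeroP
open Groth.Agent.Lib.Helper17

variable {C : Type u} [SmallCategory C] {J : GrothendieckTopology C} (A : Sheaf J RingCat.{u})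
  (U : C)

/-- presheaves of modules on `C/U` over the restricted presheaf of rings -/
abbrev PModU : Type (u + 1) := PresheafOfModules.{u} (RU U A.obj)

/-- the forgetful functor from sheaves of modules on `C/U` -/
def forgetU : SheafOfModules.{u} (A.over U) ⥤ PModU A U :=
  SheafOfModules.forget (A.over U)

/-- sheafification on `C` -/
def shf : PresheafOfModules.{u} A.obj ⥤ SheafOfModules.{u} A :=
  PresheafOfModules.sheafification (𝟙 A.obj)

/-- the forgetful functor from sheaves of modules on `C` -/
def forgetC : SheafOfModules.{u} A ⥤ PresheafOfModules.{u} A.obj :=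
  SheafOfModules.forget A

/-- the explicit extension by zero on sheaves of modules -/
def extZero' : SheafOfModules.{u} (A.over U) ⥤ SheafOfModules.{u} A :=
  forgetU A U ⋙ jPF U A.obj ⋙ shf A

/-- the adjunction between sheafification and the forgetful functor -/
def shfAdj : shf A ⊣ forgetC A :=
  PresheafOfModules.sheafificationAdjunction (𝟙 A.obj)

/-- the explicit extension by zero is left adjoint to restriction -/
def extZero'Adj : extZero' A U ⊣ SheafOfModules.overFunctor.{u} A U :=
  ((jPAdj U A.obj).comp (shfAdj A)).restrictFullyFaithful
    (iC := forgetU A U) (iD := 𝟭 _)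
    (SheafOfModules.fullyFaithfulForget _) (Functor.FullyFaithful.id _) (Iso.refl _) (Iso.refl _)

instance forgetU_preservesMonomorphisms : (forgetU A U).PreservesMonomorphisms :=
  inferInstanceAs (SheafOfModules.forget (A.over U)).PreservesMonomorphisms

instance shf_preservesFiniteLimits : PreservesFiniteLimits (shf A) := by
  unfold shf
  infer_instance

instance shf_preservesMonomorphisms : (shf A).PreservesMonomorphisms := inferInstance

instance extZero'_preservesMonomorphisms : (extZero' A U).PreservesMonomorphisms := by
  unfold extZero'
  infer_instance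

instance overFunctor_additive : (SheafOfModules.overFunctor.{u} A U).Additive where

instance isLocallyInjective_id_over :
    Presheaf.IsLocallyInjective (J.over U) (𝟙 (A.over U).obj) := by
  have : IsIso (𝟙 (A.over U).obj) := inferInstance
  infer_instance

instance isLocallySurjective_id_over :
    Presheaf.IsLocallySurjective (J.over U) (𝟙 (A.over U).obj) := by
  have : IsIso (𝟙 (A.over U).obj) := inferInstance
  infer_instance

/-- sheafification on `C/U` -/
def shfU : PModU A U ⥤ SheafOfModules.{u} (A.over U) :=
  (PresheafOfModules.sheafification.{u} (𝟙 (A.over U).obj) :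
    PresheafOfModules.{u} (A.over U).obj ⥤ SheafOfModules.{u} (A.over U))

/-- the adjunction between sheafification and the forgetful functor on `C/U` -/
def shfUAdj : shfU A U ⊣ forgetU A U :=
  (PresheafOfModules.sheafificationAdjunction.{u} (𝟙 (A.over U).obj) :
    PresheafOfModules.sheafification.{u} (𝟙 (A.over U).obj) ⊣ _)

instance shfU_preservesFiniteLimits : PreservesFiniteLimits (shfU A U) :=
  inferInstanceAs (PreservesFiniteLimits
    (PresheafOfModules.sheafification.{u} (𝟙 (A.over U).obj)))

instance : IsIso (shfUAdj A U).counit :=
  inferInstanceAs (IsIso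
    (PresheafOfModules.sheafificationAdjunction.{u} (𝟙 (A.over U).obj)).counit)

lemma unit_val (G : SheafOfModules.{u} (A.over U)) :
    (forgetU A U).map ((extZero'Adj A U).unit.app G) =
      (jPAdj U A.obj).unit.app ((forgetU A U).obj G) ≫
        (resP U A.obj).map
          ((shfAdj A).unit.app (jP ((forgetU A U).obj G))) := by
  have h := Adjunction.map_restrictFullyFaithful_unit_app (iC := forgetU A U) (iD := 𝟭 _)
    (adj := (jPAdj U A.obj).comp (shfAdj A))
    (SheafOfModules.fullyFaithfulForget _) (Functor.FullyFaithful.id _)
    (L := extZero' A U) (R := SheafOfModules.overFunctor.{u} A U) (Iso.refl _) (Iso.refl _) G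
  refine h.trans ?_
  rw [Adjunction.comp_unit_app]
  simp
  rfl

lemma mono_jPAdj_unit (G : PModU A U) :
    Mono ((jPAdj U A.obj).unit.app G) := by
  rw [PresheafOfModules.mono_iff_surjective]
  intro Y
  rw [← ModuleCat.mono_iff_injective]
  have : DecidableEq (Y.unop.left ⟶ U) := Classical.decEq _
  have h : Mono (Sigma.ι (smd G Y.unop.left) Y.unop.hom) := inferInstance
  have e : ((jPAdj U A.obj).unit.app G).app Y =
      Sigma.ι (smd G Y.unop.left) Y.unop.hom :=
    Category.comp_id (Sigma.ι (smd G Y.unop.left) Y.unop.hom)
  rw [e]
  exact h

lemma isIso_shfU_map_of_W {P Q : PModU A U} (ψ : P ⟶ Q)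
    (h : (J.over U).W ((PresheafOfModules.toPresheaf _).map ψ)) : IsIso ((shfU A U).map ψ) := by
  have := PresheafOfModules.inverseImage_W_toPresheaf_eq_inverseImage_isomorphisms.{u}
    (𝟙 (A.over U).obj)
  have h2 : ((J.over U).W.inverseImage (PresheafOfModules.toPresheaf (A.over U).obj)) ψ := h
  rw [this] at h2
  exact h2

lemma W_toPresheaf_unit (P : PresheafOfModules.{u} A.obj) :
    J.W ((PresheafOfModules.toPresheaf _).map ((shfAdj A).unit.app P)) := by
  show J.W (toSheafify J P.presheaf)
  exact J.W_toSheafify _

lemma isIso_shfU_map_resP_unit (P : PresheafOfModules.{u} A.obj) :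
    IsIso ((shfU A U).map ((resP U A.obj).map ((shfAdj A).unit.app P))) := by
  have h := IHom.W_whiskerLeft_overForget (J := J) U _ (W_toPresheaf_unit A P)
  exact isIso_shfU_map_of_W A U ((resP U A.obj).map ((shfAdj A).unit.app P)) h

omit A U in
lemma mono_map_comp_of {A B : Type*} [Category A] [Category B] (F : A ⥤ B) {X Y Z : A}
    (f : X ⟶ Y) (g : Y ⟶ Z) (h1 : Mono (F.map f)) (h2 : IsIso (F.map g)) {k : X ⟶ Z}
    (hk : k = f ≫ g) : Mono (F.map k) := by
  subst hk
  rw [F.map_comp]
  infer_instance

theorem mono_unit (G : SheafOfModules.{u} (A.over U)) : Mono ((extZero'Adj A U).unit.app G) := by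
  have h1 : Mono ((shfU A U).map ((forgetU A U).map ((extZero'Adj A U).unit.app G))) := by
    have m1 : Mono ((shfU A U).map
        ((jPAdj U A.obj).unit.app ((forgetU A U).obj G))) := by
      have := mono_jPAdj_unit A U ((forgetU A U).obj G)
      infer_instance
    exact mono_map_comp_of (shfU A U) _ _ m1
      (isIso_shfU_map_resP_unit A U (jP ((forgetU A U).obj G))) (unit_val A U G)
  have e := asIso (shfUAdj A U).counit
  have h2 : (extZero'Adj A U).unit.app G =
      e.inv.app G ≫ (shfU A U).map ((forgetU A U).map ((extZero'Adj A U).unit.app G)) ≫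
        e.hom.app _ := by
    have := e.hom.naturality ((extZero'Adj A U).unit.app G)
    simp only [Functor.comp_map, Functor.id_map] at this
    rw [this]
    simp
  rw [h2]
  infer_instance

instance extZero'_faithful : (extZero' A U).Faithful where
  map_injective {G G'} f g h := by
    have := mono_unit A U G'
    have hf := (extZero'Adj A U).unit.naturality f
    have hg := (extZero'Adj A U).unit.naturality g
    simp only [Functor.id_map, Functor.comp_map] at hf hg
    rw [← cancel_mono ((extZero'Adj A U).unit.app G'), hf, hg, h]

/-- any left adjoint of the restriction functor is exact and faithful -/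
theorem leftAdjoint_props (L : SheafOfModules.{u} (A.over U) ⥤ SheafOfModules.{u} A)
    (adj : L ⊣ SheafOfModules.overFunctor.{u} A U) :
    PreservesFiniteLimits L ∧ PreservesFiniteColimits L ∧ L.Faithful := by
  have e : L ≅ extZero' A U := adj.leftAdjointUniq (extZero'Adj A U)
  have hm : L.PreservesMonomorphisms := Functor.PreservesMonomorphisms.of_iso e.symm
  have hadd : L.Additive := adj.left_adjoint_additive
  have hc : PreservesFiniteColimits L := by
    have := adj.leftAdjoint_preservesColimits
    infer_instance
  have hh : L.PreservesHomology := Functor.preservesHomology_of_preservesMonos_and_cokernels _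
  refine ⟨Functor.preservesFiniteLimits_of_preservesHomology _, hc, ?_⟩
  exact Functor.Faithful.of_iso e.symm

end Groth.Agent.Lib.Helper2.ExtZeroR
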