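import Mathlib
import Groth.Agent.Lib.Helper2.ExtZeroR.Basic

/-!
Stalks of the extension by zero of a presheaf of modules at a point of the site:
the fibre of `jP G` at `p` is the coproduct over `x ∈ p(U)` of the fibres of `G` at `p.over x`.
-/

open CategoryTheory CategoryTheory.Limits Opposite

universe u

noncomputable section

namespace Groth.Agent.Lib.Helper2.ExtZeroR

open Groth.Agent.Lib.Helper17.ExtZeroP

variable {C : Type u} [SmallCategory C] {J : GrothendieckTopology C} {U : C}
  {R : Cᵒᵖ ⥤ RingCat.{u}} (G : PresheafOfModules.{u} (RU U R))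

section AbCoprod

variable (V : C)

/-- the underlying abelian group of `jObj G (op V)` is the coproduct of the summands -/
def abIsColimit : IsColimit ((forget₂ (ModuleCat.{u} (R.obj (op V))) AddCommGrpCat.{u}).mapCocone
    (Cofan.mk (∐ (smd G V)) (Sigma.ι (smd G V)))) :=
  isColimitOfPreserves _ (coproductIsCoproduct (smd G V))

variable {V} {T : AddCommGrpCat.{u}}

/-- maps out of the sections of `jP G` over `V`, as abelian groups -/
def abDesc (g : ∀ φ : V ⟶ U, G.presheaf.obj (op (Over.mk φ)) ⟶ T) :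
    (jP G).presheaf.obj (op V) ⟶ T :=
  (abIsColimit G V).desc (Cocone.mk T (Discrete.natTrans (fun φ => g φ.as)))

/-- inclusion of a summand, as a map of abelian groups -/
def abInj (φ : V ⟶ U) : G.presheaf.obj (op (Over.mk φ)) ⟶ (jP G).presheaf.obj (op V) :=
  (forget₂ (ModuleCat.{u} (R.obj (op V))) AddCommGrpCat.{u}).map (Sigma.ι (smd G V) φ)

lemma abInj_abDesc (g : ∀ φ : V ⟶ U, G.presheaf.obj (op (Over.mk φ)) ⟶ T) (φ : V ⟶ U) :
    abInj G φ ≫ abDesc G g = g φ :=
  (abIsColimit G V).fac (Cocone.mk T (Discrete.natTrans (fun φ => g φ.as))) ⟨φ⟩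

lemma ab_hom_ext {a b : (jP G).presheaf.obj (op V) ⟶ T}
    (h : ∀ φ : V ⟶ U, abInj G φ ≫ a = abInj G φ ≫ b) : a = b :=
  (abIsColimit G V).hom_ext (fun φ => h φ.as)

lemma abInj_apply (φ : V ⟶ U) (s : smd G V φ) : (abInj G φ).hom s = inj G φ s := rfl

end AbCoprod

section Stalk

variable (p : GrothendieckTopology.Point.{u} J)

/-- the coproduct of the stalks of `G` at the points over `p` -/
abbrev tgt : AddCommGrpCat.{u} :=
  ∐ fun x : p.fiber.obj U => (p.over x).presheafFiber.obj G.presheaf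

/-- the germ of a section of a summand, in the coproduct of stalks -/
def germTo {V : C} (φ : V ⟶ U) (y : p.fiber.obj V) (x : p.fiber.obj U)
    (hx : p.fiber.map φ y = x) : G.presheaf.obj (op (Over.mk φ)) ⟶ tgt G p :=
  (p.over x).toPresheafFiber (Over.mk φ) ⟨y, hx⟩ G.presheaf ≫
    Sigma.ι (fun x : p.fiber.obj U => (p.over x).presheafFiber.obj G.presheaf) x

lemma germTo_congr {V : C} (φ : V ⟶ U) {y y' : p.fiber.obj V} (hy : y = y') (x : p.fiber.obj U)
    (hx : p.fiber.map φ y = x) (hx' : p.fiber.map φ y' = x) :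
    germTo G p φ y x hx = germTo G p φ y' x hx' := by
  subst hy
  rfl

lemma germTo_w {V V' : C} (h : V' ⟶ V) (φ : V ⟶ U) (y' : p.fiber.obj V') (x : p.fiber.obj U)
    (hx' : p.fiber.map (h ≫ φ) y' = x) (hx : p.fiber.map φ (p.fiber.map h y') = x) :
    G.presheaf.map (Over.homMk h : Over.mk (h ≫ φ) ⟶ Over.mk φ).op ≫ germTo G p (h ≫ φ) y' x hx' =
      germTo G p φ (p.fiber.map h y') x hx := by
  have h1 := (p.over x).toPresheafFiber_w (Over.homMk h : Over.mk (h ≫ φ) ⟶ Over.mk φ)
    ⟨y', hx'⟩ G.presheaf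
  unfold germTo
  rw [← Category.assoc, h1]
  rfl

/-- the forward map on sections over `(V, y)` -/
def fwdAt (V : C) (y : p.fiber.obj V) : (jP G).presheaf.obj (op V) ⟶ tgt G p :=
  abDesc G (fun φ => germTo G p φ y (p.fiber.map φ y) rfl)

lemma abInj_fwdAt (V : C) (y : p.fiber.obj V) (φ : V ⟶ U) :
    abInj G φ ≫ fwdAt G p V y = germTo G p φ y (p.fiber.map φ y) rfl :=
  abInj_abDesc G _ φ

lemma presheaf_map_abInj {V V' : C} (h : V' ⟶ V) (φ : V ⟶ U) :
    abInj G φ ≫ (jP G).presheaf.map h.op =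
      G.presheaf.map (Over.homMk h : Over.mk (h ≫ φ) ⟶ Over.mk φ).op ≫ abInj G (h ≫ φ) := by
  ext s
  exact jP_map_inj G h φ s

lemma germTo_congr_x {V : C} (φ : V ⟶ U) (y : p.fiber.obj V) {x x' : p.fiber.obj U} (e : x = x')
    (hx : p.fiber.map φ y = x) (hx' : p.fiber.map φ y = x') :
    germTo G p φ y x hx = germTo G p φ y x' hx' := by
  subst e
  rfl

lemma fwdAt_w {V V' : C} (h : V' ⟶ V) (y' : p.fiber.obj V') :
    (jP G).presheaf.map h.op ≫ fwdAt G p V' y' = fwdAt G p V (p.fiber.map h y') := by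
  apply ab_hom_ext
  intro φ
  rw [← Category.assoc, presheaf_map_abInj, Category.assoc, abInj_fwdAt, abInj_fwdAt]
  have hx' : p.fiber.map (h ≫ φ) y' = p.fiber.map φ (p.fiber.map h y') := by
    simp
  rw [germTo_congr_x G p (h ≫ φ) y' hx' rfl hx']
  exact germTo_w G p h φ y' _ hx' rfl

/-- the forward map -/
def fwd : p.presheafFiber.obj (jP G).presheaf ⟶ tgt G p :=
  p.presheafFiberDesc (fun V y => fwdAt G p V y) (fun _ _ h y' => fwdAt_w G p h y')

lemma toPresheafFiber_fwd (V : C) (y : p.fiber.obj V) :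
    p.toPresheafFiber V y (jP G).presheaf ≫ fwd G p = fwdAt G p V y :=
  p.toPresheafFiber_presheafFiberDesc _ _ V y

/-- the backward map on sections over `(W, w)`, `W` an object over `U` -/
def bwdAt (x : p.fiber.obj U) (W : Over U) (w : (p.over x).fiber.obj W) :
    G.presheaf.obj (op W) ⟶ p.presheafFiber.obj (jP G).presheaf :=
  abInj G W.hom ≫ p.toPresheafFiber W.left w.1 (jP G).presheaf

lemma map_abInj_over {W W' : Over U} (k : W' ⟶ W) :
    G.presheaf.map k.op ≫ abInj G W'.hom =
      G.presheaf.map (Over.homMk k.left : Over.mk (k.left ≫ W.hom) ⟶ Over.mk W.hom).op ≫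
        abInj G (k.left ≫ W.hom) := by
  ext s
  exact inj_map_congr G (Over.w k).symm k
    (Over.homMk k.left : Over.mk (k.left ≫ W.hom) ⟶ Over.mk W.hom) rfl s

lemma bwdAt_w (x : p.fiber.obj U) {W W' : Over U} (k : W' ⟶ W) (w' : (p.over x).fiber.obj W') :
    G.presheaf.map k.op ≫ bwdAt G p x W' w' = bwdAt G p x W ((p.over x).fiber.map k w') := by
  have h1 := p.toPresheafFiber_w k.left w'.1 (jP G).presheaf
  have h2 : bwdAt G p x W ((p.over x).fiber.map k w') =
      abInj G W.hom ≫ p.toPresheafFiber W.left (p.fiber.map k.left w'.1) (jP G).presheaf := rfl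
  rw [h2, ← h1, ← Category.assoc, presheaf_map_abInj, Category.assoc]
  unfold bwdAt
  rw [← Category.assoc, map_abInj_over, Category.assoc]

/-- the backward map on the summand `x` -/
def bwdx (x : p.fiber.obj U) :
    (p.over x).presheafFiber.obj G.presheaf ⟶ p.presheafFiber.obj (jP G).presheaf :=
  (p.over x).presheafFiberDesc (fun W w => bwdAt G p x W w) (fun _ _ k w' => bwdAt_w G p x k w')

lemma toPresheafFiber_bwdx (x : p.fiber.obj U) (W : Over U) (w : (p.over x).fiber.obj W) :
    (p.over x).toPresheafFiber W w G.presheaf ≫ bwdx G p x = bwdAt G p x W w :=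
  (p.over x).toPresheafFiber_presheafFiberDesc _ _ W w

/-- the backward map -/
def bwd : tgt G p ⟶ p.presheafFiber.obj (jP G).presheaf :=
  Sigma.desc (fun x => bwdx G p x)

lemma fwd_bwd : fwd G p ≫ bwd G p = 𝟙 _ := by
  apply p.presheafFiber_hom_ext
  intro V y
  rw [← Category.assoc, toPresheafFiber_fwd, Category.comp_id]
  apply ab_hom_ext
  intro φ
  rw [← Category.assoc, abInj_fwdAt]
  unfold germTo bwd
  rw [Category.assoc, Sigma.ι_desc, toPresheafFiber_bwdx]
  rfl

lemma bwd_fwd : bwd G p ≫ fwd G p = 𝟙 _ := by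
  apply Sigma.hom_ext
  intro x
  unfold bwd
  rw [← Category.assoc, Sigma.ι_desc, Category.comp_id]
  apply (p.over x).presheafFiber_hom_ext
  intro W w
  rw [← Category.assoc, toPresheafFiber_bwdx]
  unfold bwdAt
  rw [Category.assoc, toPresheafFiber_fwd, abInj_fwdAt]
  obtain ⟨y, hy⟩ := w
  exact germTo_congr_x G p W.hom y hy rfl hy

/-- the stalk of `jP G` at `p` is the coproduct of the stalks of `G` at the points over `p` -/
def stalkIso : p.presheafFiber.obj (jP G).presheaf ≅ tgt G p where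
  hom := fwd G p
  inv := bwd G p
  hom_inv_id := fwd_bwd G p
  inv_hom_id := bwd_fwd G p

end Stalk

section Sheaf

variable (A : Sheaf J RingCat.{u}) (X : C) (H : SheafOfModules.{u} (A.over X))
  (p : GrothendieckTopology.Point.{u} J)

/-- the map from the stalk of a presheaf to the stalk of its sheafification -/
def stalkShfHom (P : PresheafOfModules.{u} A.obj) :
    p.presheafFiber.obj P.presheaf ⟶ p.presheafFiber.obj ((shf A).obj P).val.presheaf :=
  p.presheafFiber.map ((PresheafOfModules.toPresheaf _).map ((shfAdj A).unit.app P))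

instance isIso_stalkShfHom (P : PresheafOfModules.{u} A.obj) : IsIso (stalkShfHom A p P) :=
  GrothendieckTopology.Point.W_isInvertedBy_presheafFiber p _ (W_toPresheaf_unit A P)

/-- the stalk of the explicit extension by zero -/
def stalkExtZero'Iso :
    (p.sheafFiber (A := AddCommGrpCat.{u})).obj
        ((SheafOfModules.toSheaf A).obj ((extZero' A X).obj H)) ≅
      ∐ fun x : p.fiber.obj X => ((p.over x).sheafFiber (A := AddCommGrpCat.{u})).obj
        ((SheafOfModules.toSheaf (A.over X)).obj H) :=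
  (asIso (stalkShfHom A p (jP ((forgetU A X).obj H)))).symm ≪≫ stalkIso ((forgetU A X).obj H) p

/-- the stalk of any left adjoint of restriction -/
theorem nonempty_stalk_iso (L : SheafOfModules.{u} (A.over X) ⥤ SheafOfModules.{u} A)
    (adj : L ⊣ SheafOfModules.overFunctor.{u} A X) :
    Nonempty ((p.sheafFiber (A := AddCommGrpCat.{u})).obj
        ((SheafOfModules.toSheaf A).obj (L.obj H)) ≅
      ∐ fun x : p.fiber.obj X => ((p.over x).sheafFiber (A := AddCommGrpCat.{u})).obj
        ((SheafOfModules.toSheaf (A.over X)).obj H)) :=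
  ⟨(p.sheafFiber (A := AddCommGrpCat.{u})).mapIso ((SheafOfModules.toSheaf A).mapIso
    ((adj.leftAdjointUniq (extZero'Adj A X)).app H)) ≪≫ stalkExtZero'Iso A X H p⟩

end Sheaf

end Groth.Agent.Lib.Helper2.ExtZeroR
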